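import Mathlib

/-!
Lower growth bound for `t ↦ length (R ⧸ m ^ t)` in terms of the Krull dimension, and a filtration
bound for `length (R ⧸ (b₁ ^ s, …, bₙ ^ s))`. Author: helper54.
-/

set_option autoImplicit false
universe u

open IsLocalRing

namespace Groth.MonConj

section Growth

lemma length_quot_ideal_eq {R S : Type u} [CommRing R] [CommRing S] [Algebra R S]
    (hsurj : Function.Surjective (algebraMap R S)) (J : Ideal S) :
    Module.length R (S ⧸ J) = Module.length S (S ⧸ J) :=
  Module.length_eq_of_surjective hsurj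

lemma length_quot_ideal_eq' {R : Type u} [CommRing R] (I : Ideal R) :
    Module.length R (R ⧸ I) = Module.length (R ⧸ I) (R ⧸ I) :=
  Module.length_eq_of_surjective Ideal.Quotient.mk_surjective

lemma map_maximalIdeal_of_surjective {R S : Type u} [CommRing R] [CommRing S] [IsLocalRing R]
    [IsLocalRing S] (f : R →+* S) (hf : Function.Surjective f) :
    (maximalIdeal R).map f = maximalIdeal S := by
  refine (IsLocalRing.eq_maximalIdeal ?_)
  refine (Ideal.map_eq_top_or_isMaximal_of_surjective f hf inferInstance).resolve_left ?_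
  intro htop
  have hk : RingHom.ker f ≤ maximalIdeal R := IsLocalRing.le_maximalIdeal (RingHom.ker_ne_top f)
  have := congrArg (Ideal.comap f) htop
  rw [Ideal.comap_map_of_surjective f hf, Ideal.comap_top] at this
  apply (IsLocalRing.maximalIdeal.isMaximal R).ne_top
  rw [← this, eq_comm, sup_eq_left]
  exact hk

/-- Passing to a quotient ring decreases `length (R ⧸ m ^ t)`. -/
lemma length_quotient_pow_le {R S : Type u} [CommRing R] [CommRing S] [IsLocalRing R]
    [IsLocalRing S] (f : R →+* S) (hf : Function.Surjective f) (t : ℕ) :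
    Module.length S (S ⧸ maximalIdeal S ^ t) ≤ Module.length R (R ⧸ maximalIdeal R ^ t) := by
  let : Algebra R S := f.toAlgebra
  rw [← length_quot_ideal_eq (R := R) hf]
  have hle : maximalIdeal R ^ t ≤
      LinearMap.ker ((Ideal.Quotient.mkₐ R (maximalIdeal S ^ t)).toLinearMap.comp
        (Algebra.linearMap R S)) := by
    intro y hy
    have : f y ∈ maximalIdeal S ^ t := by
      rw [← map_maximalIdeal_of_surjective f hf, ← Ideal.map_pow]
      exact Ideal.mem_map_of_mem f hy
    rw [LinearMap.mem_ker]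
    simp only [LinearMap.comp_apply, Algebra.linearMap_apply, AlgHom.toLinearMap_apply,
      Ideal.Quotient.mkₐ_eq_mk]
    exact Ideal.Quotient.eq_zero_iff_mem.mpr this
  refine Module.length_le_of_surjective (Submodule.liftQ _ _ hle) ?_
  intro z
  obtain ⟨s, rfl⟩ := Ideal.Quotient.mk_surjective z
  obtain ⟨r, rfl⟩ := hf s
  exact ⟨Submodule.Quotient.mk r, rfl⟩

/-- In a Noetherian local domain, with `x ≠ 0` in `m`. -/
lemma exists_shift {D : Type u} [CommRing D] [IsDomain D] [IsNoetherianRing D] [IsLocalRing D]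
    {x : D} (hx : x ≠ 0) :
    ∃ c : ℕ, 1 ≤ c ∧ ∀ t : ℕ, Module.length D (D ⧸ maximalIdeal D ^ (t - c)) +
      Module.length D (D ⧸ (maximalIdeal D ^ t ⊔ Ideal.span {x})) ≤
      Module.length D (D ⧸ maximalIdeal D ^ t) := by
  obtain ⟨k, hk⟩ := Ideal.exists_pow_inf_eq_pow_smul (maximalIdeal D)
    (Ideal.span {x} : Submodule D D)
  refine ⟨k + 1, by omega, fun t => ?_⟩
  set m := maximalIdeal D
  have hcolon : ∀ y, x * y ∈ m ^ t → y ∈ m ^ (t - (k + 1)) := by
    intro y hy
    by_cases ht : t < k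
    · simp [show t - (k + 1) = 0 by omega]
    · have h1 : x * y ∈ (m ^ t • ⊤ : Submodule D D) ⊓ Ideal.span {x} :=
        ⟨by simpa using hy, Ideal.mem_span_singleton.mpr (dvd_mul_right x y)⟩
      rw [hk t (by omega)] at h1
      have h2 : x * y ∈ m ^ (t - k) • (Ideal.span {x} : Submodule D D) :=
        Submodule.smul_mono le_rfl inf_le_right h1
      rw [smul_eq_mul, Ideal.mem_mul_span_singleton] at h2
      obtain ⟨z, hz, hzx⟩ := h2
      have : z = y := mul_right_cancel₀ hx (by rw [hzx, mul_comm])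
      exact Ideal.pow_le_pow_right (by omega) (this ▸ hz)
  let μ : D →ₗ[D] (D ⧸ m ^ t) := (Submodule.mkQ (m ^ t)).comp (LinearMap.mulLeft D x)
  let π : (D ⧸ m ^ t) →ₗ[D] (D ⧸ (m ^ t ⊔ Ideal.span {x})) :=
    Submodule.mapQ _ _ LinearMap.id (fun y hy => Ideal.mem_sup_left hy)
  have hπ : Function.Surjective π := by
    intro z; obtain ⟨r, rfl⟩ := Submodule.Quotient.mk_surjective _ z
    exact ⟨Submodule.Quotient.mk r, rfl⟩
  have hexact : Function.Exact (LinearMap.range μ).subtype π := by
    intro z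
    obtain ⟨r, rfl⟩ := Submodule.Quotient.mk_surjective _ z
    simp only [π, Submodule.mapQ_apply, LinearMap.id_coe, id_eq, Submodule.Quotient.mk_eq_zero,
      Submodule.coe_subtype, Subtype.range_coe_subtype, LinearMap.mem_range, Set.mem_ofPred_eq]
    constructor
    · intro hr
      obtain ⟨p, hp, q, hq, hpq⟩ := Submodule.mem_sup.mp hr
      obtain ⟨w, rfl⟩ := Ideal.mem_span_singleton'.mp hq
      refine ⟨w, ?_⟩
      simp only [μ, LinearMap.comp_apply, LinearMap.mulLeft_apply, Submodule.mkQ_apply]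
      rw [Submodule.Quotient.eq]
      have : x * w - r = -p := by rw [← hpq]; ring
      rw [this]; exact neg_mem hp
    · rintro ⟨w, hw⟩
      simp only [μ, LinearMap.comp_apply, LinearMap.mulLeft_apply, Submodule.mkQ_apply] at hw
      rw [Submodule.Quotient.eq] at hw
      have : r = x * w - (x * w - r) := by ring
      rw [this]
      exact sub_mem (Ideal.mem_sup_right (Ideal.mem_span_singleton.mpr (dvd_mul_right x w)))
        (Ideal.mem_sup_left hw)
  rw [Module.length_eq_add_of_exact _ π (Submodule.injective_subtype _) hπ hexact]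
  refine add_le_add ?_ le_rfl
  rw [← μ.quotKerEquivRange.length_eq]
  refine Module.length_le_of_surjective
    (Submodule.mapQ _ _ LinearMap.id (fun y hy => ?_)) ?_
  · have hy' : x * y ∈ m ^ t := by
      exact (Submodule.Quotient.mk_eq_zero _).mp (LinearMap.mem_ker.mp hy)
    exact hcolon y hy'
  · intro z; obtain ⟨r, rfl⟩ := Submodule.Quotient.mk_surjective _ z
    exact ⟨Submodule.Quotient.mk r, rfl⟩

/-- The induction step for a domain. -/
lemma domain_step (n : ℕ)
    (ih : ∀ (R : Type u) [CommRing R] [IsNoetherianRing R] [IsLocalRing R],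
      (n : WithBot ℕ∞) ≤ ringKrullDim R →
      ∃ K : ℕ, ∀ t : ℕ, 1 ≤ t →
        ((t ^ n : ℕ) : ℕ∞) ≤ K * Module.length R (R ⧸ maximalIdeal R ^ t))
    (D : Type u) [CommRing D] [IsDomain D] [IsNoetherianRing D] [IsLocalRing D]
    (hdim : ((n + 1 : ℕ) : WithBot ℕ∞) ≤ ringKrullDim D) :
    ∃ K : ℕ, ∀ t : ℕ, 1 ≤ t →
      ((t ^ (n + 1) : ℕ) : ℕ∞) ≤ K * Module.length D (D ⧸ maximalIdeal D ^ t) := by
  obtain ⟨x, hxm, hx⟩ : ∃ x ∈ maximalIdeal D, x ≠ 0 := by
    by_contra! h
    have hf : IsField D := (IsLocalRing.isField_iff_maximalIdeal_eq).mpr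
      ((Submodule.eq_bot_iff _).mpr h)
    have h0 := ringKrullDim_eq_zero_of_isField hf
    rw [h0] at hdim
    exact absurd hdim (by norm_cast)
  have hE : Nontrivial (D ⧸ Ideal.span {x}) := Ideal.Quotient.nontrivial_iff.mpr
    (ne_top_of_le_ne_top (maximalIdeal.isMaximal D).ne_top
      ((Ideal.span_singleton_le_iff_mem _).mpr hxm))
  have : IsLocalRing (D ⧸ Ideal.span {x}) :=
    IsLocalRing.of_surjective' (Ideal.Quotient.mk _) Ideal.Quotient.mk_surjective
  have hdimE : (n : WithBot ℕ∞) ≤ ringKrullDim (D ⧸ Ideal.span {x}) := by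
    have h := ringKrullDim_quotient_span_singleton_succ_eq_ringKrullDim
      (R := D) (x := x) (IsSMulRegular.of_ne_zero hx) hxm
    rw [← h, Nat.cast_succ] at hdim
    revert hdim
    generalize ringKrullDim (D ⧸ Ideal.span {x}) = d
    intro hdim
    induction d with
    | bot => simp at hdim
    | coe d =>
      norm_cast at hdim ⊢
      exact WithTop.le_of_add_le_add_right WithTop.one_ne_top hdim
  obtain ⟨K, hK⟩ := ih (D ⧸ Ideal.span {x}) hdimE
  obtain ⟨c, hc, hshift⟩ := exists_shift hx
  set f : ℕ → ℕ∞ := fun t => Module.length D (D ⧸ maximalIdeal D ^ t) with hf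
  set g : ℕ → ℕ∞ := fun t =>
    Module.length D (D ⧸ (maximalIdeal D ^ t ⊔ Ideal.span {x})) with hg
  have hgK : ∀ t, 1 ≤ t → ((t ^ n : ℕ) : ℕ∞) ≤ K * g t := by
    intro t ht
    refine (hK t ht).trans (mul_le_mul_right (le_of_eq ?_) _)
    rw [← length_quot_ideal_eq (R := D) (S := D ⧸ Ideal.span {x}) Ideal.Quotient.mk_surjective]
    rw [← map_maximalIdeal_of_surjective (Ideal.Quotient.mk (Ideal.span {x}))
      Ideal.Quotient.mk_surjective, ← Ideal.map_pow]
    refine ((DoubleQuot.quotQuotEquivQuotSupₐ D _ _).toLinearEquiv.length_eq).trans ?_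
    rw [hg, sup_comm]
  have hmono : ∀ a b, a ≤ b → g a ≤ g b := by
    intro a b hab
    refine Module.length_le_of_surjective (Submodule.mapQ _ _ LinearMap.id
      ((sup_le_sup_right (Ideal.pow_le_pow_right hab) (Ideal.span {x}) :
        maximalIdeal D ^ b ⊔ Ideal.span {x} ≤ maximalIdeal D ^ a ⊔ Ideal.span {x}))) ?_
    intro z; obtain ⟨r, rfl⟩ := Submodule.Quotient.mk_surjective _ z
    exact ⟨Submodule.Quotient.mk r, rfl⟩
  have hiter : ∀ j t : ℕ, (j : ℕ∞) * g (t - j * c) ≤ f t := by
    intro j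
    induction j with
    | zero => intro t; simp
    | succ j ihj =>
      intro t
      refine le_trans ?_ (hshift t)
      have h1 := ihj (t - c)
      rw [Nat.cast_succ, add_mul, one_mul]
      refine add_le_add (le_trans (le_of_eq ?_) h1) (hmono _ _ (Nat.sub_le _ _))
      congr 2
      rw [Nat.succ_mul, Nat.sub_sub, add_comm]
  refine ⟨4 * c * 2 ^ n * K + (2 * c) ^ (n + 1), fun t ht => ?_⟩
  rw [Nat.cast_add, add_mul]
  by_cases hj : t < 2 * c
  · refine le_trans ?_ le_add_self
    have h1 : (1 : ℕ∞) ≤ f t := by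
      have : Nontrivial (D ⧸ maximalIdeal D ^ t) :=
        Ideal.Quotient.nontrivial_iff.mpr fun h => (maximalIdeal.isMaximal D).ne_top
          (top_le_iff.mp (h ▸ Ideal.pow_le_self (by omega)))
      exact Order.one_le_iff_pos.mpr Module.length_pos
    calc ((t ^ (n + 1) : ℕ) : ℕ∞) = ((t ^ (n + 1) : ℕ) : ℕ∞) * 1 := (mul_one _).symm
      _ ≤ (((2 * c) ^ (n + 1) : ℕ) : ℕ∞) * f t :=
        mul_le_mul' (Nat.cast_le.mpr (Nat.pow_le_pow_left hj.le _)) h1
  · refine le_trans ?_ le_self_add
    set j := t / (2 * c) with hj'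
    have hjpos : 1 ≤ j := (Nat.one_le_div_iff (by omega)).mpr (by omega)
    have hdm : 2 * c * j + t % (2 * c) = t := Nat.div_add_mod t (2 * c)
    have hmod : t % (2 * c) < 2 * c := Nat.mod_lt _ (by omega)
    have hjc : c ≤ j * c := Nat.le_mul_of_pos_left c hjpos
    have h2 : 2 * c * j = 2 * (j * c) := by ring
    have ht2 : t ≤ 2 * (t - j * c) := by omega
    have ht3 : t ≤ 4 * c * j := by nlinarith
    have key : t ^ (n + 1) ≤ 4 * c * 2 ^ n * j * (t - j * c) ^ n := by
      calc t ^ (n + 1) = t * t ^ n := pow_succ' t n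
        _ ≤ (4 * c * j) * (2 * (t - j * c)) ^ n :=
          Nat.mul_le_mul ht3 (Nat.pow_le_pow_left ht2 _)
        _ = _ := by rw [mul_pow]; ring
    calc ((t ^ (n + 1) : ℕ) : ℕ∞)
        ≤ ((4 * c * 2 ^ n * j * (t - j * c) ^ n : ℕ) : ℕ∞) := Nat.cast_le.mpr key
      _ = ((4 * c * 2 ^ n : ℕ) : ℕ∞) * j * ((t - j * c) ^ n : ℕ) := by push_cast; ring
      _ ≤ ((4 * c * 2 ^ n : ℕ) : ℕ∞) * j * (K * g (t - j * c)) :=
        mul_le_mul_right (hgK _ (by omega)) _
      _ = ((4 * c * 2 ^ n * K : ℕ) : ℕ∞) * (j * g (t - j * c)) := by push_cast; ring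
      _ ≤ _ := mul_le_mul_right (hiter j t) _

/-- `t ^ n = O (length (R ⧸ m ^ t))` whenever `n ≤ dim R`. -/
theorem exists_pow_le_mul_length (n : ℕ) :
    ∀ (R : Type u) [CommRing R] [IsNoetherianRing R] [IsLocalRing R],
      (n : WithBot ℕ∞) ≤ ringKrullDim R →
      ∃ K : ℕ, ∀ t : ℕ, 1 ≤ t →
        ((t ^ n : ℕ) : ℕ∞) ≤ K * Module.length R (R ⧸ maximalIdeal R ^ t) := by
  induction n with
  | zero =>
    intro R _ _ _ _
    refine ⟨1, fun t ht => ?_⟩
    have : Nontrivial (R ⧸ maximalIdeal R ^ t) :=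
      Ideal.Quotient.nontrivial_iff.mpr fun h => (maximalIdeal.isMaximal R).ne_top
        (top_le_iff.mp (h ▸ Ideal.pow_le_self (by omega)))
    simpa using Order.one_le_iff_pos.mpr (Module.length_pos (R := R) (M := R ⧸ maximalIdeal R ^ t))
  | succ n ih =>
    intro R _ _ _ hR
    -- reduce to a domain
    obtain ⟨P, hP, hdim⟩ : ∃ P : Ideal R, P.IsPrime ∧
        ((n + 1 : ℕ) : WithBot ℕ∞) ≤ ringKrullDim (R ⧸ P) := by
      obtain ⟨s, hs⟩ := Order.le_krullDim_iff.mp (show ((n + 1 : ℕ) : WithBot ℕ∞) ≤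
        Order.krullDim (PrimeSpectrum R) from hR)
      refine ⟨s.head.asIdeal, s.head.isPrime, ?_⟩
      rw [ringKrullDim_quotient]
      refine Order.le_krullDim_iff.mpr ⟨LTSeries.mk s.length
        (fun i => ⟨s i, ?_⟩) (fun i j hij => s.strictMono hij), hs⟩
      exact (PrimeSpectrum.mem_zeroLocus _ _).mpr
        (SetLike.coe_subset_coe.mpr (PrimeSpectrum.asIdeal_le_asIdeal _ _ |>.mpr (s.head_le i)))
    have : Nontrivial (R ⧸ P) := Ideal.Quotient.nontrivial_iff.mpr hP.ne_top
    have : IsLocalRing (R ⧸ P) :=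
      IsLocalRing.of_surjective' (Ideal.Quotient.mk P) Ideal.Quotient.mk_surjective
    suffices ∃ K : ℕ, ∀ t : ℕ, 1 ≤ t → ((t ^ (n + 1) : ℕ) : ℕ∞) ≤
        K * Module.length (R ⧸ P) ((R ⧸ P) ⧸ maximalIdeal (R ⧸ P) ^ t) by
      obtain ⟨K, hK⟩ := this
      exact ⟨K, fun t ht => (hK t ht).trans (mul_le_mul_right
        (length_quotient_pow_le _ Ideal.Quotient.mk_surjective t) _)⟩
    exact domain_step n (fun R _ _ _ h => ih R h) (R ⧸ P) hdim

end Growth

section Box

variable {R : Type u} [CommRing R] {n s : ℕ} (b : Fin n → R)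

private abbrev J (s : ℕ) : Ideal R := Ideal.span (Set.range fun i => b i ^ s)

private noncomputable def e (s : ℕ) (ν : Fin n → Fin s) : R ⧸ J b s :=
  Submodule.Quotient.mk (∏ i, b i ^ (ν i : ℕ))

private noncomputable def N (W : Finset (Fin n → Fin s)) : Submodule R (R ⧸ J b s) :=
  Submodule.span R (e b s '' (W : Set (Fin n → Fin s)))

set_option maxHeartbeats 800000 in
private lemma length_N_le (hs : 0 < s)
    (hp : (∏ i, b i) ^ (s - 1) ∈ J b s) (W : Finset (Fin n → Fin s))
    (hW : ∀ μ ∈ W, ∀ μ', μ ≤ μ' → μ' ∈ W) :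
    Module.length R (N b W) ≤
      ((W.erase fun _ => ⟨s - 1, by omega⟩).card : ℕ∞) *
        Module.length R (R ⧸ Ideal.span (Set.range b)) := by
  induction W using Finset.strongInduction with
  | _ W ih =>
    rcases W.eq_empty_or_nonempty with rfl | hne
    · have : N b (∅ : Finset (Fin n → Fin s)) = ⊥ := by simp [N]
      rw [this]; exact le_of_eq_of_le Module.length_bot zero_le
    obtain ⟨ν, hν, hmin⟩ := W.exists_minimal hne
    have hW' : ∀ μ ∈ W.erase ν, ∀ μ', μ ≤ μ' → μ' ∈ W.erase ν := by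
      intro μ hμ μ' hle
      obtain ⟨hne', hμW⟩ := Finset.mem_erase.mp hμ
      refine Finset.mem_erase.mpr ⟨?_, hW μ hμW μ' hle⟩
      rintro rfl
      exact hne' (le_antisymm hle (hmin hμW hle))
    have ih' := ih _ (Finset.erase_ssubset hν) hW'
    have hins : N b W = N b (W.erase ν) ⊔ Submodule.span R {e b s ν} := by
      conv_lhs => rw [N, ← Finset.insert_erase hν, Finset.coe_insert, Set.image_insert_eq,
        Submodule.span_insert, sup_comm]
      rfl
    by_cases htop : ν = fun _ => ⟨s - 1, by omega⟩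
    · have he : e b s ν = 0 := by
        subst htop
        rw [e, Submodule.Quotient.mk_eq_zero, Finset.prod_pow]
        exact hp
      rw [hins, he, Submodule.span_zero_singleton, sup_bot_eq]
      refine ih'.trans (mul_le_mul_left (Nat.cast_le.mpr (Finset.card_le_card ?_)) _)
      exact Finset.erase_subset_erase _ (Finset.erase_subset _ _)
    · have hkill : ∀ i, b i • e b s ν ∈ N b (W.erase ν) := by
        intro i
        have hprod : ∀ m : ℕ, m = (ν i : ℕ) + 1 →
            b i * ∏ j, b j ^ (ν j : ℕ) = b i ^ m * ∏ j ∈ Finset.univ.erase i, b j ^ (ν j : ℕ) := by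
          intro m hm
          rw [← Finset.mul_prod_erase _ _ (Finset.mem_univ i), hm, pow_succ']
          ring
        by_cases hi : (ν i : ℕ) + 1 < s
        · let ν' := Function.update ν i ⟨(ν i : ℕ) + 1, hi⟩
          have hle : ν ≤ ν' := by
            intro j
            by_cases hj : j = i
            · subst hj; simp [ν', Fin.le_def]
            · simp [ν', hj]
          have hne' : ν' ≠ ν := fun h => by
            have := congrArg Fin.val (congrFun h i); simp [ν'] at this
          refine Submodule.subset_span ⟨ν', Finset.mem_coe.mpr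
            (Finset.mem_erase.mpr ⟨hne', hW ν hν ν' hle⟩), ?_⟩
          rw [e, e, ← Submodule.Quotient.mk_smul, smul_eq_mul, hprod _ rfl,
            ← Finset.mul_prod_erase _ _ (Finset.mem_univ i)]
          congr 2
          · simp [ν']
          · refine Finset.prod_congr rfl fun j hj => ?_
            simp [ν', (Finset.mem_erase.mp hj).1]
        · have hz : b i • e b s ν = 0 := by
            rw [e, ← Submodule.Quotient.mk_smul, Submodule.Quotient.mk_eq_zero, smul_eq_mul,
              hprod s (by have := (ν i).isLt; omega)]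
            exact Ideal.mul_mem_right _ _ (Ideal.subset_span ⟨i, rfl⟩)
          rw [hz]; exact zero_mem _
      have hle : N b (W.erase ν) ≤ N b W := by rw [hins]; exact le_sup_left
      let Q := (N b W) ⧸ (N b (W.erase ν)).comap (N b W).subtype
      have hmem : e b s ν ∈ N b W := Submodule.subset_span ⟨ν, hν, rfl⟩
      let φ : R →ₗ[R] Q :=
        (Submodule.mkQ _).comp (LinearMap.toSpanSingleton R (N b W) ⟨_, hmem⟩)
      have hφker : Ideal.span (Set.range b) ≤ LinearMap.ker φ := by
        rw [Ideal.span_le]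
        rintro _ ⟨i, rfl⟩
        exact (Submodule.Quotient.mk_eq_zero _).mpr (hkill i)
      have hφsurj : Function.Surjective φ := by
        intro z
        obtain ⟨⟨w, hw⟩, rfl⟩ := Submodule.Quotient.mk_surjective _ z
        have hw' : w ∈ N b (W.erase ν) ⊔ Submodule.span R {e b s ν} := hins ▸ hw
        obtain ⟨p, hp, q, hq, hpq⟩ := Submodule.mem_sup.mp hw'
        obtain ⟨r, rfl⟩ := Submodule.mem_span_singleton.mp hq
        refine ⟨r, ?_⟩
        simp only [φ, LinearMap.comp_apply, LinearMap.toSpanSingleton_apply, Submodule.mkQ_apply]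
        rw [Submodule.Quotient.eq, Submodule.mem_comap]
        simp only [map_sub, map_smul, Submodule.coe_subtype]
        have : r • e b s ν - w = -p := by rw [← hpq]; abel
        rw [this]; exact neg_mem hp
      have hQ : Module.length R Q ≤ Module.length R (R ⧸ Ideal.span (Set.range b)) := by
        refine Module.length_le_of_surjective (Submodule.liftQ _ φ hφker) ?_
        intro z; obtain ⟨r, rfl⟩ := hφsurj z
        exact ⟨Submodule.Quotient.mk r, rfl⟩
      have hlen : Module.length R (N b W) =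
          Module.length R ((N b (W.erase ν)).comap (N b W).subtype) + Module.length R Q :=
        Module.length_eq_add_of_exact ((N b (W.erase ν)).comap (N b W).subtype).subtype
          ((N b (W.erase ν)).comap (N b W).subtype).mkQ
          (Submodule.injective_subtype _) (Submodule.mkQ_surjective _)
          (LinearMap.exact_subtype_mkQ _)
      rw [hlen]
      rw [(Submodule.comapSubtypeEquivOfLe hle).length_eq]
      refine (add_le_add ih' hQ).trans (le_of_eq ?_)
      have hν' : ν ∈ W.erase (fun _ => ⟨s - 1, by omega⟩) := Finset.mem_erase.mpr ⟨htop, hν⟩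
      rw [Finset.erase_right_comm, ← Finset.card_erase_add_one hν']
      push_cast
      ring

/-- If `(∏ b) ^ (s - 1) ∈ (b ^ s)` then `length (R ⧸ (b ^ s)) ≤ (s ^ n - 1) * length (R ⧸ (b))`. -/
theorem length_quotient_span_pow_le (hs : 0 < s)
    (hp : (∏ i, b i) ^ (s - 1) ∈ Ideal.span (Set.range fun i => b i ^ s)) :
    Module.length R (R ⧸ Ideal.span (Set.range fun i => b i ^ s)) ≤
      ((s ^ n - 1 : ℕ) : ℕ∞) * Module.length R (R ⧸ Ideal.span (Set.range b)) := by
  have h := length_N_le b hs hp Finset.univ (fun μ _ μ' _ => Finset.mem_univ μ')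
  have htop : N b (Finset.univ : Finset (Fin n → Fin s)) = ⊤ := by
    rw [eq_top_iff]
    rintro z -
    obtain ⟨r, rfl⟩ := Submodule.Quotient.mk_surjective _ z
    have h0 : e b s (fun _ => ⟨0, hs⟩) = Submodule.Quotient.mk 1 := by simp [e]
    have : (Submodule.Quotient.mk r : R ⧸ J b s) = r • e b s (fun _ => ⟨0, hs⟩) := by
      rw [h0, ← Submodule.Quotient.mk_smul, smul_eq_mul, mul_one]
    rw [this]
    exact Submodule.smul_mem _ _ (Submodule.subset_span ⟨_, Finset.mem_univ _, rfl⟩)
  rw [htop, Module.length_top, Finset.card_erase_of_mem (Finset.mem_univ _)] at h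
  simpa using h

end Box

end Groth.MonConj
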